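import Cfsg.Agent.H414.S88.Minus
import Cfsg.Agent.H414.S88.Frame
import Cfsg.Agent.H425.Siegel

/-!
# S3588: the kills K2, K3, K4 (helper414)

* `kill_oplus` (K2) : `L = C_n`, `B_n`, `n` odd, `S = D_(n+1)(q)`;
* `kill_ominus` (K3) : `L = C_n`, `B_n`, `n` even, `S = ²D_n(q)`;
* `kill_dn` (K4) : `L = D_n`, `n` even, `S = C_(n-1)(q)`, `B_(n-1)(q)`.

In K3, K4 the hypothesis `MovAll` (elements of order `w`, `w` of class `n - 1`, move a `p`-subgroup) is discharged by the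
Siegel subgroups.
-/

set_option autoImplicit false
set_option linter.unusedSectionVars false

namespace Cfsg.Agent.H414.S88

open Cfsg Subgroup
open Cfsg.Agent.H403.S88 Cfsg.Agent.H426.LieFam Cfsg.Agent.H436 Cfsg.Agent.H425.KStep Cfsg.Agent.H390
  Cfsg.Agent.H390.NonAdj

universe u v

section num

variable {p k n c d e f r s w : ℕ}

/-- the use of `NA` -/
theorem na_cl {L : Type v} [Group L] (hL : NA L (p ^ k) n) (hp : p.Prime) (hk : 1 ≤ k) {ηe ηf : ℕ}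
    (hr : Cl p k e r) (hw : Cl p k f w) (he : 3 ≤ e) (hf : 3 ≤ f) (hef : e ≠ f) (g1 : IsEta e ηe) (g2 : IsEta f ηf)
    (hle : ηe ≤ ηf) (h3 : 3 ≤ ηf) (hsum : n < ηe + ηf) (hrat : ¬ ∃ t : ℕ, Odd t ∧ f = e * t) :
    ¬ ∃ g : L, orderOf g = r * w := by
  rintro ⟨g, hg⟩
  exact hL w r f e ηf ηe hw.prime hr.prime (hw.order hp hk) (hr.order hp hk) (Ne.symm (hr.ne hw hk hef)) hf he g2 g1
    hle (by omega) hsum hrat g (by rw [hg, mul_comm])

/-- the classes `n - 1`, `2 (n - 1)` and the class `e` of a pair -/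
structure Far (n e : ℕ) : Prop where
  three : 3 ≤ e
  ex : ∃ η, IsEta e η ∧ 2 ≤ η ∧ η ≤ n - 1
  r1 : ¬ ∃ t : ℕ, Odd t ∧ n - 1 = e * t
  r2 : ¬ ∃ t : ℕ, Odd t ∧ 2 * (n - 1) = e * t
  ne1 : e ≠ n - 1
  ne2 : e ≠ 2 * (n - 1)

theorem far_low (h2 : n % 2 = 0) (h6 : 6 ≤ n) : Far n (n - 2) := by
  obtain ⟨a, rfl⟩ : ∃ a, n = 2 * (a + 1) := ⟨n / 2 - 1, by omega⟩
  have e1 : 2 * (a + 1) - 2 = 2 * a := by omega
  have ha : 2 ≤ a := by omega
  rw [e1]
  refine ⟨by omega, ⟨a, eta_even a, ha, by omega⟩, ?_, ?_, by omega, by omega⟩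
  · rintro ⟨t, -, ht⟩
    have h3 : 2 * a * t = 2 * (a * t) := by ring
    omega
  · rintro ⟨t, -, ht⟩
    have h3 : 2 * a * t = 2 * (a * t) := by ring
    have h4 : a * t = a * 2 + 1 := by omega
    have h5 : a ∣ 1 := (Nat.dvd_add_right (dvd_mul_right a 2)).1 (h4 ▸ dvd_mul_right a t)
    have := Nat.dvd_one.1 h5
    omega

theorem far_high (h2 : n % 2 = 0) (h6 : 6 ≤ n) : Far n (n + 2) := by
  obtain ⟨a, rfl⟩ : ∃ a, n = 2 * (a + 1) := ⟨n / 2 - 1, by omega⟩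
  have e1 : 2 * (a + 1) + 2 = 2 * (a + 2) := by omega
  have ha : 2 ≤ a := by omega
  rw [e1]
  refine ⟨by omega, ⟨a + 2, eta_even _, by omega, by omega⟩, ?_, ?_, by omega, by omega⟩
  · rintro ⟨t, -, ht⟩
    have h3 : 2 * (a + 2) * t = 2 * ((a + 2) * t) := by ring
    omega
  · rintro ⟨t, -, ht⟩
    have h3 : 2 * (a + 2) * t = 2 * ((a + 2) * t) := by ring
    have h4 : (a + 2) * t = 2 * a + 1 := by omega
    rcases Nat.lt_or_ge t 2 with h5 | h5
    · have h6 : t = 0 ∨ t = 1 := by omega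
      rcases h6 with rfl | rfl <;> omega
    · have h6 : (a + 2) * 2 ≤ (a + 2) * t := Nat.mul_le_mul_left _ h5
      omega

theorem far_three : Far 8 3 :=
  ⟨by norm_num, ⟨3, Or.inl ⟨by decide, rfl⟩, by norm_num, by norm_num⟩, by rintro ⟨t, -, ht⟩; omega,
    by rintro ⟨t, -, ht⟩; omega, by norm_num, by norm_num⟩

theorem far_five : Far 8 5 :=
  ⟨by norm_num, ⟨5, Or.inl ⟨by decide, rfl⟩, by norm_num, by norm_num⟩, by rintro ⟨t, -, ht⟩; omega,
    by rintro ⟨t, -, ht⟩; omega, by norm_num, by norm_num⟩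

theorem not_sq_dvd (hp : p.Prime) (hk : 1 ≤ k) (hw : Cl p k (n - 1) w) (h2 : n % 2 = 0) (h6 : 6 ≤ n) (j : ℕ) :
    ¬ (w - 1) ^ 2 ∣ p ^ j := by
  intro h
  have h1 := hw.dvd_sub hp hk (by omega)
  rcases eq_or_ne p 2 with rfl | hp2
  · -- `n - 1` is odd
    have h3 : n - 1 ∣ 2 ^ j := ((dvd_mul_left (n - 1) k).trans h1).trans ((dvd_pow_self _ two_ne_zero).trans h)
    have h4 : Nat.Coprime (n - 1) (2 ^ j) := Nat.Coprime.pow_right j (Nat.coprime_two_right.2 (Nat.odd_iff.2 (by omega)))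
    have h5 := Nat.Coprime.eq_one_of_dvd h4 h3
    omega
  · have h3 : 2 ∣ w - 1 := by
      have := hw.odd hk (by omega)
      omega
    have h4 : 2 ∣ p ^ j := h3.trans ((dvd_pow_self _ two_ne_zero).trans h)
    exact hp2 ((Nat.prime_dvd_prime_iff_eq Nat.prime_two hp).1 (Nat.prime_two.dvd_of_dvd_pow h4)).symm

end num

/-- **K2**: `L = C_n`, `B_n`, `n` odd, `S = D_(n+1)(q)`. -/
theorem kill_oplus {L : Type v} [Group L] {G : Type u} [Group G] [Finite G] {K : Subgroup G} [K.Normal]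
    {S : Subgroup (G ⧸ K)} {p n k : ℕ} {T : Ty} (h : Dat p T n k L G) (hn : n % 2 = 1)
    (hS : Fam.Is p k ↥S (.oplus (n + 1))) : False := by
  obtain ⟨c, d, hP, -, ⟨r, hr⟩, s, hs⟩ := exists_pair (N := n + 1) h.hp h.hk (by omega) (by have := h.hn; omega)
  obtain ⟨g, hg⟩ := exists_of_sect (hP.plus h.hp h.hk hS hr hs)
  exact hP.na h.hp h.hk (isna h.hL) (Nat.lt_succ_self n) hr hs ((h.hsp _).1 ⟨g, hg⟩)

/-- the common part of K3, K4 -/
theorem kill_pair {L : Type v} [Group L] [Finite L] {G : Type u} [Group G] [Finite G] {K : Subgroup G} [K.Normal]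
    {S : Subgroup (G ⧸ K)} (hF : Fr K S) {p n k : ℕ} {T : Ty} (h : Dat p T n k L G) (hn : n % 2 = 0) (h6 : 6 ≤ n)
    (hM : ∀ w, Cl p k (n - 1) w → Mov S p w)
    (hL : ∀ c d r s, Pair n c d → Cl p k c r → Cl p k d s → ∃ g : L, orderOf g = r * s)
    (hS : ∀ c d r s, Pair n c d → Cl p k c r → Cl p k d s → ¬ ∃ g : S, orderOf g = r * s)
    (hO : ∀ t : ℕ, t.Prime → t ≠ 2 → ¬ t ∣ k → ¬ t ∣ Nat.card (Cfsg.Out S)) : False := by
  have hp := h.hp
  have hk := h.hk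
  obtain ⟨c, d, hP, hcd, ⟨r, hr⟩, s, hs⟩ := exists_pair (N := n) hp hk hn h6
  have hfar : Far n c ∧ Far n d := by
    rcases hcd with ⟨rfl, rfl⟩ | ⟨rfl, rfl, rfl⟩
    · exact ⟨far_low hn h6, far_high hn h6⟩
    · exact ⟨far_three, far_five⟩
  obtain ⟨w, hw⟩ := exists_cl (c := n - 1) hp hk (by omega) (by
    rintro ⟨-, h1⟩
    have h3 : n - 1 ∣ 6 := Dvd.intro_left k h1
    have h4 : n - 1 ∣ 3 := (Nat.coprime_two_right.2 (Nat.odd_iff.2 (by omega))).dvd_of_dvd_mul_left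
      (show n - 1 ∣ 2 * 3 from h3)
    have := Nat.le_of_dvd (by norm_num) h4
    omega)
  obtain ⟨x, hx⟩ := exists_cl (c := 2 * (n - 1)) hp hk (by omega) (by
    rintro ⟨-, h1⟩
    have h3 : 1 * (2 * (n - 1)) ≤ k * (2 * (n - 1)) := Nat.mul_le_mul_right _ hk
    omega)
  have hna := isna h.hL
  have hodd : Odd (n - 1) := Nat.odd_iff.2 (by omega)
  have tr : ∀ {m : ℕ}, (¬ ∃ g : L, orderOf g = m) → ¬ ∃ g : G, orderOf g = m := fun h1 h2 => h1 ((h.hsp _).1 h2)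
  have gw : IsEta (n - 1) (n - 1) := Or.inl ⟨hodd, rfl⟩
  have gx : IsEta (2 * (n - 1)) (n - 1) := eta_even _
  have n1 : ∀ {e t : ℕ}, Far n e → Cl p k e t → ¬ ∃ g : L, orderOf g = t * w := fun {e t} hf ht => by
    obtain ⟨η, g1, g2, g3⟩ := hf.ex
    exact na_cl hna hp hk ht hw hf.three (by omega) hf.ne1 g1 gw g3 (by omega) (by omega) hf.r1
  have n2 : ∀ {e t : ℕ}, Far n e → Cl p k e t → ¬ ∃ g : L, orderOf g = t * x := fun {e t} hf ht => by
    obtain ⟨η, g1, g2, g3⟩ := hf.ex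
    exact na_cl hna hp hk ht hx hf.three (by omega) hf.ne2 g1 gx g3 (by omega) (by omega) hf.r2
  have n3 : ¬ ∃ g : L, orderOf g = w * x :=
    na_cl hna hp hk hw hx (by omega) (by omega) (by omega) gw gx le_rfl (by omega) (by omega) (rat_two (by omega))
  have hdv : ∀ {e t : ℕ}, Cl p k e t → 3 ≤ e → IsEta e (n - 1) → t ∣ Nat.card G := fun {e t} ht he hη => by
    have h1 := isdv h.hL t e (n - 1) ht.prime (ht.order hp hk) he hη le_rfl
    have := Fact.mk ht.prime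
    obtain ⟨g, hg⟩ := exists_prime_orderOf_dvd_card' t h1
    obtain ⟨g', hg'⟩ := (h.hsp t).2 ⟨g, hg⟩
    rw [← hg']
    exact orderOf_dvd_natCard g'
  exact kill_core hF hp hr.prime hs.prime hw.prime hx.prime (hw.ne_two hk (by omega)) (not_sq_dvd hp hk hw hn h6)
    (Ne.symm hr.ne_char) (Ne.symm hs.ne_char) (Ne.symm hw.ne_char)
    (hr.ne hw hk hfar.1.ne1) (hs.ne hw hk hfar.2.ne1) (hr.ne hx hk hfar.1.ne2) (hs.ne hx hk hfar.2.ne2)
    (hw.ne hx hk (by omega)) (hM w hw) (hdv hw (by omega) gw) (hdv hx (by omega) gx) ((h.hsp _).2 (hL c d r s hP hr hs))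
    (hS c d r s hP hr hs)
    (hO r hr.prime (hr.ne_two hk (by have := hfar.1.three; omega)) (hr.not_dvd_k hp hk (by have := hfar.1.three; omega)))
    (hO s hs.prime (hs.ne_two hk (by have := hfar.2.three; omega)) (hs.not_dvd_k hp hk (by have := hfar.2.three; omega)))
    (tr (n1 hfar.1 hr)) (tr (n1 hfar.2 hs)) (tr (n2 hfar.1 hr)) (tr (n2 hfar.2 hs)) (tr n3)

/-- **K3**: `L = C_n`, `B_n`, `n` even, `S = ²D_n(q)`. -/
theorem kill_ominus' {L : Type v} [Group L] [Finite L] {G : Type u} [Group G] [Finite G] {K : Subgroup G} [K.Normal]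
    {S : Subgroup (G ⧸ K)} (hF : Fr K S) {p n k : ℕ} {T : Ty} (h : Dat p T n k L G) (hT : T = .c ∨ T = .b)
    (hn : n % 2 = 0) (hM : ∀ w, Cl p k (n - 1) w → Mov S p w) (hS : Fam.Is p k ↥S (.ominus n)) : False := by
  have h5 := h.hn
  refine kill_pair hF h hn (by omega) hM ?_ (fun c d r s hP hr hs => hP.minus h.hp h.hk hS hr hs)
    (fun t ht ht2 htk => out_ominus hS h.hp ht ht2 htk)
  intro c d r s hP hr hs
  rcases hT with rfl | rfl
  · exact hP.psp h.hp h.hk h.hL hr hs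
  · exact hP.oodd h.hp h.hk h.hL hr hs

/-- **K4**: `L = D_n`, `n` even, `S = C_(n-1)(q)`. -/
theorem kill_dn_psp' {L : Type v} [Group L] [Finite L] {G : Type u} [Group G] [Finite G] {K : Subgroup G} [K.Normal]
    {S : Subgroup (G ⧸ K)} (hF : Fr K S) {p n k : ℕ} (h : Dat p .pl n k L G)
    (hn : n % 2 = 0) (hM : ∀ w, Cl p k (n - 1) w → Mov S p w) (hS : Fam.Is p k ↥S (.psp (n - 1))) : False := by
  have h5 := h.hn
  exact kill_pair hF h hn (by omega) hM (fun c d r s hP hr hs => hP.plus h.hp h.hk h.hL hr hs)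
    (fun c d r s hP hr hs => hP.na h.hp h.hk (isna_psp hS) (by omega) hr hs)
    (fun t ht ht2 htk => out_psp (center_eq hF) hS h.hp (by omega) ht ht2 htk)

/-- **K4**: `L = D_n`, `n` even, `S = B_(n-1)(q)`. -/
theorem kill_dn_oodd' {L : Type v} [Group L] [Finite L] {G : Type u} [Group G] [Finite G] {K : Subgroup G} [K.Normal]
    {S : Subgroup (G ⧸ K)} (hF : Fr K S) {p n k : ℕ} (h : Dat p .pl n k L G)
    (hn : n % 2 = 0) (hM : ∀ w, Cl p k (n - 1) w → Mov S p w) (hS : Fam.Is p k ↥S (.oodd (n - 1))) : False := by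
  have h5 := h.hn
  exact kill_pair hF h hn (by omega) hM (fun c d r s hP hr hs => hP.plus h.hp h.hk h.hL hr hs)
    (fun c d r s hP hr hs => hP.na h.hp h.hk (isna_oodd hS) (by omega) hr hs)
    (fun t ht ht2 htk => out_oodd hS h.hp ht ht2 htk)

end Cfsg.Agent.H414.S88
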