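import Cfsg.Agent.H403.S88.Def
import Cfsg.Agent.H425.Cls
import Cfsg.Agent.H390.Cocl
import Cfsg.Agent.S2474

/-!
# S3588: classes of primes of symplectic and orthogonal groups (helper414)

* `Cl p k c r` : `r` is a primitive prime divisor of `p ^ (k c) - 1`;
* `DV L q m` : the primes of the classes `e`, `η(e) ≤ m`, divide `|L|`; `na_*`, `dv_*` for the families;
* `Pair N c d` : two classes of the same parity with `η(c) + η(d) = N`, neither an odd multiple of the other;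
  `Pair.na`, `Pair.psp`, `Pair.oodd`, `Pair.plus`.
-/

set_option autoImplicit false
set_option linter.unusedSectionVars false

namespace Cfsg.Agent.H414.S88

open Cfsg Subgroup
open Cfsg.Agent.H403.S88 Cfsg.Agent.H426.LieFam Cfsg.Agent.H436 Cfsg.Agent.H390 Cfsg.Agent.H390.NonAdj
open Cfsg.Agent.LieClassical.OrthCount Cfsg.Agent.LieClassical.OmegaReindex Cfsg.Agent.LieClassical

universe u v

/-- primes of class `c` over the field with `p ^ k` elements, primitive over `p` -/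
def Cl (p k c r : ℕ) : Prop := Prim p (k * c) r

section cl

variable {p k c d r s : ℕ}

theorem exists_cl (hp : p.Prime) (hk : 1 ≤ k) (hc : 3 ≤ c) (h6 : ¬ (p = 2 ∧ k * c = 6)) : ∃ r, Cl p k c r :=
  exists_prim hp.two_le (hc.trans (Nat.le_mul_of_pos_left c hk)) h6

theorem Cl.prim (h : Cl p k c r) (hk : 1 ≤ k) : Prim (p ^ k) c r := H425.PartP.prim_of_pow (by omega) h

theorem Cl.prime (h : Cl p k c r) : r.Prime := Prim.prime h

theorem Cl.order (h : Cl p k c r) (hp : p.Prime) (hk : 1 ≤ k) : orderOf ((p ^ k : ℕ) : ZMod r) = c :=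
  H425.Chr.prim_orderOf (Nat.one_le_pow _ _ hp.pos) (h.prim hk)

theorem Cl.odd (h : Cl p k c r) (hk : 1 ≤ k) (hc : 2 ≤ c) : r % 2 = 1 := (h.prim hk).odd hc

theorem Cl.ne_two (h : Cl p k c r) (hk : 1 ≤ k) (hc : 2 ≤ c) : r ≠ 2 := by
  have := h.odd hk hc
  omega

theorem Cl.ne_char (h : Cl p k c r) : r ≠ p := by
  rintro rfl
  exact Prim.not_dvd h dvd_rfl

theorem Cl.unique (h : Cl p k c r) (h' : Cl p k d r) (hk : 1 ≤ k) : c = d := (h.prim hk).unique (h'.prim hk)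

theorem Cl.ne (h : Cl p k c r) (h' : Cl p k d s) (hk : 1 ≤ k) (hcd : c ≠ d) : r ≠ s := by
  rintro rfl
  exact hcd (h.unique h' hk)

/-- `k c` divides `r - 1` -/
theorem Cl.dvd_sub (h : Cl p k c r) (hp : p.Prime) (hk : 1 ≤ k) (hc : 1 ≤ c) : k * c ∣ r - 1 := by
  have hr : Fact r.Prime := ⟨h.prime⟩
  have h1 : orderOf ((p : ℕ) : ZMod r) = k * c := H425.Chr.prim_orderOf hp.one_lt.le h
  rw [← h1]
  exact ZMod.orderOf_dvd_card_sub_one (by
    rw [Ne, ZMod.natCast_eq_zero_iff]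
    exact Prim.not_dvd h)

theorem Cl.not_dvd_k (h : Cl p k c r) (hp : p.Prime) (hk : 1 ≤ k) (hc : 1 ≤ c) : ¬ r ∣ k := by
  intro h1
  have h2 := Nat.le_of_dvd (by have := h.prime.two_le; omega) (h.dvd_sub hp hk hc)
  have h3 := Nat.le_of_dvd hk h1
  have h4 : k * 1 ≤ k * c := Nat.mul_le_mul_left _ hc
  have := h.prime.two_le
  omega

end cl

/-! ### non-adjacency and divisibility -/

theorem NA.congr {L : Type u} {L' : Type v} [Group L] [Group L'] (e : L ≃* L') {q n : ℕ} (h : NA L' q n) :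
    NA L q n := by
  intro r s er es ηr ηs h1 h2 h3 h4 h5 h6 h7 h8 h9 h10 h11 h12 h13 g hg
  exact h r s er es ηr ηs h1 h2 h3 h4 h5 h6 h7 h8 h9 h10 h11 h12 h13 (e g) (by rw [MulEquiv.orderOf_eq, hg])

/-- the primes of the classes `e`, `η(e) ≤ m`, divide `|L|` -/
def DV (L : Type*) (q m : ℕ) : Prop :=
  ∀ r e η : ℕ, r.Prime → orderOf ((q : ℕ) : ZMod r) = e → 3 ≤ e → IsEta e η → η ≤ m → r ∣ Nat.card L

theorem DV.congr {L : Type u} {L' : Type v} (e : L ≃ L') {q n : ℕ} (h : DV L' q n) : DV L q n := by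
  intro r c η h1 h2 h3 h4 h5
  rw [Nat.card_congr e]
  exact h r c η h1 h2 h3 h4 h5

section fam

variable {F : Type} [Field F] [Fintype F] {n : ℕ}

theorem dv_psp (_hn : 2 ≤ n) : DV (PSp n F) (Nat.card F) n := by
  have hq : Nat.card F = Fintype.card F := Nat.card_eq_fintype_card
  have hq1 : 1 < Nat.card F := Finite.one_lt_card
  intro r e η hr he h3 hη hle
  obtain ⟨hr2, hr3, hrq, -, -⟩ := prim_cond hr he h3
  have h1 : r ∣ Nat.card (Matrix.symplecticGroup (Fin n) F) := by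
    rw [Cfsg.Agent.S0245.result (F := F) rfl n]
    apply Dvd.dvd.mul_left
    rw [← hq]
    exact dvd_of_eta hq1.le he hη (hη.ne (by omega)) hle
  have := Fact.mk hr
  obtain ⟨y, hy⟩ := exists_prime_orderOf_dvd_card' r h1
  obtain ⟨x, hx⟩ := Lift.desc_odd _ (fun z hz => Cfsg.Agent.H376.SpEmb.center_pow z hz) (hr.odd_of_ne_two hr2) ⟨y, hy⟩
  rw [← hx]
  exact orderOf_dvd_natCard x

theorem data_odd (hn : 3 ≤ n) (hodd : Odd (Fintype.card F)) : Lift.Data (quadOdd n F) := by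
  have hcard : Fintype.card (Unit ⊕ (Fin n ⊕ Fin n)) = 2 * n + 1 := by simp; ring
  exact data_of _ (quadOdd_nondegenerate (two_ne_zero_of_odd hodd)) (by rw [hcard]; omega)
    (quadOdd_isotropic (by omega)) (Or.inr (by rw [hcard]; omega))

theorem data_plus (hn : 4 ≤ n) : Lift.Data (quadPlus n F) := by
  have hcard : Fintype.card (Fin n ⊕ Fin n) = 2 * n := by simp; ring
  exact data_of _ quadPlus_nondegenerate (by rw [hcard]; omega)
    (quadPlus_isotropic (by omega)) (Or.inr (by rw [hcard]; omega))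

theorem data_minus (hn : 4 ≤ n) {a b : F}
    (hab : ∀ z₁ z₂ : F, z₁ ^ 2 + a * z₁ * z₂ + b * z₂ ^ 2 = 0 → z₁ = 0 ∧ z₂ = 0) :
    Lift.Data (quadMinus (n - 1) F a b) := by
  have hcard : Fintype.card ((Fin (n - 1) ⊕ Fin (n - 1)) ⊕ Fin 2) = 2 * n := by simp; omega
  exact data_of _ (quadMinus_nondegenerate hab) (by rw [hcard]; omega)
    (quadMinus_isotropic (by omega) a b) (Or.inr (by rw [hcard]; omega))

theorem na_oodd (hn : 3 ≤ n) (hodd : Odd (Fintype.card F)) : NA (POmega F (quadFormOdd n F)) (Nat.card F) n := by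
  have hcard : Fintype.card (Unit ⊕ (Fin n ⊕ Fin n)) = 2 * n + 1 := by simp; ring
  have := na_pomega (data_odd (F := F) hn hodd) (n := n) (by rw [hcard])
  rwa [coe_quadOdd] at this

theorem dv_oodd (hn : 3 ≤ n) (hodd : Odd (Fintype.card F)) : DV (POmega F (quadFormOdd n F)) (Nat.card F) n := by
  have hq : Nat.card F = Fintype.card F := Nat.card_eq_fintype_card
  have hq1 : 1 < Nat.card F := Finite.one_lt_card
  have hord := Cfsg.Agent.S0292.result (F := F) rfl hodd n hn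
  intro r e η hr he h3 hη hle
  obtain ⟨hr2, hr3, hrq, -, -⟩ := prim_cond hr he h3
  have h3 : r ∣ 2 * Nat.card (POmega F (quadFormOdd n F)) := by
    rw [hord]
    apply Dvd.dvd.mul_left
    rw [← hq]
    exact dvd_of_eta hq1.le he hη (hη.ne (by omega)) hle
  rcases hr.dvd_mul.1 h3 with h4 | h4
  · exact absurd ((Nat.prime_dvd_prime_iff_eq hr Nat.prime_two).1 h4) hr2
  · exact h4

theorem na_oplus (hn : 4 ≤ n) : NA (POmega F (quadFormPlus n F)) (Nat.card F) n := by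
  have hcard : Fintype.card (Fin n ⊕ Fin n) = 2 * n := by simp; ring
  have := na_pomega (data_plus (F := F) hn) (n := n) (by rw [hcard]; omega)
  rwa [coe_quadPlus] at this

theorem dv_oplus (hn : 4 ≤ n) : DV (POmega F (quadFormPlus n F)) (Nat.card F) (n - 1) := by
  have hq : Nat.card F = Fintype.card F := Nat.card_eq_fintype_card
  have hq1 : 1 < Nat.card F := Finite.one_lt_card
  have hord := Cfsg.Agent.S0293.result (F := F) rfl n hn
  intro r e η hr he h3 hη hle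
  obtain ⟨hr2, hr3, hrq, -, -⟩ := prim_cond hr he h3
  refine dvd_of_gcd_mul hr hr2 hord (dvd_mul_of_dvd_right ?_ _)
  rw [← hq]
  exact dvd_of_eta hq1.le he hη (hη.ne (by omega)) hle

theorem na_ominus (hn : 4 ≤ n) {a b : F}
    (hab : ∀ z₁ z₂ : F, z₁ ^ 2 + a * z₁ * z₂ + b * z₂ ^ 2 = 0 → z₁ = 0 ∧ z₂ = 0) :
    NA (POmega F (quadFormMinus (n - 1) F a b)) (Nat.card F) n := by
  have hcard : Fintype.card ((Fin (n - 1) ⊕ Fin (n - 1)) ⊕ Fin 2) = 2 * n := by simp; omega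
  have := na_pomega (data_minus (F := F) hn hab) (n := n) (by rw [hcard]; omega)
  rwa [coe_quadMinus] at this

theorem dv_ominus (hn : 4 ≤ n) {a b : F}
    (hab : ∀ z₁ z₂ : F, z₁ ^ 2 + a * z₁ * z₂ + b * z₂ ^ 2 = 0 → z₁ = 0 ∧ z₂ = 0) :
    DV (POmega F (quadFormMinus (n - 1) F a b)) (Nat.card F) (n - 1) := by
  have hq : Nat.card F = Fintype.card F := Nat.card_eq_fintype_card
  have hq1 : 1 < Nat.card F := Finite.one_lt_card
  have hord := Cfsg.Agent.S0294.result (F := F) rfl n hn a b hab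
  intro r e η hr he h3 hη hle
  obtain ⟨hr2, hr3, hrq, -, -⟩ := prim_cond hr he h3
  refine dvd_of_gcd_mul hr hr2 hord (dvd_mul_of_dvd_right ?_ _)
  rw [← hq]
  exact dvd_of_eta hq1.le he hη (hη.ne (by omega)) hle

end fam

/-! ### the families -/

section named

variable {S : Type u} [Group S] {p k n : ℕ}

theorem isna_psp (h : Fam.Is p k S (.psp n)) : NA S (p ^ k) n := by
  obtain ⟨hn, hn2, F, _, _, _, hF, ⟨e⟩⟩ := h
  rw [← hF, ← Nat.card_eq_fintype_card]
  exact NA.congr e (na_psp hn (by rwa [hF]))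

theorem isdv_psp (h : Fam.Is p k S (.psp n)) : DV S (p ^ k) n := by
  obtain ⟨hn, hn2, F, _, _, _, hF, ⟨e⟩⟩ := h
  rw [← hF, ← Nat.card_eq_fintype_card]
  exact DV.congr e.toEquiv (dv_psp hn)

theorem isna_oodd (h : Fam.Is p k S (.oodd n)) : NA S (p ^ k) n := by
  obtain ⟨hn, ho, F, _, _, _, hF, ⟨e⟩⟩ := h
  rw [← hF] at ho
  rw [← hF, ← Nat.card_eq_fintype_card]
  exact NA.congr e (na_oodd hn ho)

theorem isdv_oodd (h : Fam.Is p k S (.oodd n)) : DV S (p ^ k) n := by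
  obtain ⟨hn, ho, F, _, _, _, hF, ⟨e⟩⟩ := h
  rw [← hF] at ho
  rw [← hF, ← Nat.card_eq_fintype_card]
  exact DV.congr e.toEquiv (dv_oodd hn ho)

theorem isna_oplus (h : Fam.Is p k S (.oplus n)) : NA S (p ^ k) n := by
  obtain ⟨hn, F, _, _, _, hF, ⟨e⟩⟩ := h
  rw [← hF, ← Nat.card_eq_fintype_card]
  exact NA.congr e (na_oplus hn)

theorem isdv_oplus (h : Fam.Is p k S (.oplus n)) : DV S (p ^ k) (n - 1) := by
  obtain ⟨hn, F, _, _, _, hF, ⟨e⟩⟩ := h
  rw [← hF, ← Nat.card_eq_fintype_card]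
  exact DV.congr e.toEquiv (dv_oplus hn)

theorem isna_ominus (h : Fam.Is p k S (.ominus n)) : NA S (p ^ k) n := by
  obtain ⟨hn, F, _, _, _, a, b, hF, hab, ⟨e⟩⟩ := h
  rw [← hF, ← Nat.card_eq_fintype_card]
  exact NA.congr e (na_ominus hn hab)

theorem isdv_ominus (h : Fam.Is p k S (.ominus n)) : DV S (p ^ k) (n - 1) := by
  obtain ⟨hn, F, _, _, _, a, b, hF, hab, ⟨e⟩⟩ := h
  rw [← hF, ← Nat.card_eq_fintype_card]
  exact DV.congr e.toEquiv (dv_ominus hn hab)

/-- non-adjacency for the four types -/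
theorem isna {T : Ty} (h : Fam.Is p k S (T.fam n)) : NA S (p ^ k) n := by
  cases T
  · exact isna_psp h
  · exact isna_oodd h
  · exact isna_oplus h
  · exact isna_ominus h

theorem isdv {T : Ty} (h : Fam.Is p k S (T.fam n)) : DV S (p ^ k) (n - 1) := by
  cases T
  · exact fun r e η h1 h2 h3 h4 h5 => isdv_psp h r e η h1 h2 h3 h4 (by omega)
  · exact fun r e η h1 h2 h3 h4 h5 => isdv_oodd h r e η h1 h2 h3 h4 (by omega)
  · exact isdv_oplus h
  · exact isdv_ominus h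

end named

/-! ### two classes with `η(c) + η(d) = N` -/

/-- two classes of the same parity with `η(c) + η(d) = N`, neither an odd multiple of the other -/
inductive Pair (N : ℕ) : ℕ → ℕ → Prop
  | even (a b : ℕ) : 2 ≤ a → a < b → a + b = N → (∀ t, b = a * t → t % 2 = 0) → Pair N (2 * a) (2 * b)
  | odd (a b : ℕ) : 3 ≤ a → a < b → a + b = N → Odd a → Odd b → ¬ a ∣ b → Pair N a b

section pair

variable {N c d : ℕ}

theorem Pair.le (h : Pair N c d) : 3 ≤ c ∧ 3 ≤ d ∧ c ≠ d ∧ 5 ≤ N := by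
  cases h <;> omega

/-- the pair `N - 2`, `N + 2` -/
theorem pair_mid (h2 : N % 2 = 0) (h6 : 6 ≤ N) : Pair N (2 * (N / 2 - 1)) (2 * (N / 2 + 1)) := by
  refine Pair.even _ _ (by omega) (by omega) (by omega) fun t ht => ?_
  obtain ⟨a, rfl⟩ : ∃ a, N = 2 * (a + 1) := ⟨N / 2 - 1, by omega⟩
  rw [show 2 * (a + 1) / 2 = a + 1 by omega, Nat.add_sub_cancel] at ht
  have ha : 2 ≤ a := by omega
  rcases Nat.lt_or_ge t 3 with h3 | h3
  · rcases Nat.lt_or_ge t 1 with h4 | h4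
    · omega
    · rcases Nat.lt_or_ge t 2 with h5 | h5
      · obtain rfl : t = 1 := by omega
        omega
      · obtain rfl : t = 2 := by omega
        rfl
  · have h4 : a * 3 ≤ a * t := Nat.mul_le_mul_left _ h3
    omega

theorem pair_eight : Pair 8 3 5 := Pair.odd 3 5 (by norm_num) (by norm_num) (by norm_num) (by decide) (by decide) (by decide)

/-- there is a pair with primes -/
theorem exists_pair {p k : ℕ} (hp : p.Prime) (hk : 1 ≤ k) (h2 : N % 2 = 0) (h6 : 6 ≤ N) :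
    ∃ c d, Pair N c d ∧ ((c = N - 2 ∧ d = N + 2) ∨ (N = 8 ∧ c = 3 ∧ d = 5)) ∧
      (∃ r, Cl p k c r) ∧ ∃ s, Cl p k d s := by
  by_cases h : p = 2 ∧ k * (N - 2) = 6
  · obtain ⟨rfl, h⟩ := h
    have hN : N = 8 := by
      have h1 : 1 * (N - 2) ≤ k * (N - 2) := Nat.mul_le_mul_right _ hk
      have h3 : N = 6 ∨ N = 8 := by omega
      rcases h3 with rfl | h3
      · omega
      · exact h3
    subst hN
    refine ⟨3, 5, pair_eight, Or.inr ⟨rfl, rfl, rfl⟩, exists_cl hp hk (by norm_num) ?_,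
      exists_cl hp hk (by norm_num) ?_⟩ <;> omega
  · refine ⟨_, _, pair_mid h2 h6, Or.inl ⟨by omega, by omega⟩, exists_cl hp hk (by omega) ?_,
      exists_cl hp hk (by omega) ?_⟩
    · rintro ⟨h1, h3⟩
      exact h ⟨h1, by rw [← h3]; congr 1; omega⟩
    · rintro ⟨h1, h3⟩
      have h4 : 1 * (2 * (N / 2 + 1)) ≤ k * (2 * (N / 2 + 1)) := Nat.mul_le_mul_right _ hk
      omega

variable {p k r s : ℕ}

/-- not adjacent in rank less than `N` -/
theorem Pair.na {L : Type u} [Group L] {m : ℕ} (h : Pair N c d) (hp : p.Prime) (hk : 1 ≤ k) (hL : NA L (p ^ k) m)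
    (hm : m < N) (hr : Cl p k c r) (hs : Cl p k d s) : ¬ ∃ g : L, orderOf g = r * s := by
  rintro ⟨g, hg⟩
  have hor := hr.order hp hk
  have hos := hs.order hp hk
  obtain ⟨h3, h4, hne, -⟩ := h.le
  have hrs := hr.ne hs hk hne
  cases h with
  | even a b h1 h2 h5 h6 =>
    refine hL s r _ _ b a hs.prime hr.prime hos hor (Ne.symm hrs) h4 h3 (eta_even b) (eta_even a) h2.le (by omega)
      (by omega) ?_ g (by rw [hg, mul_comm])
    rintro ⟨t, ht, h7⟩
    have h8 := h6 t (by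
      have : 2 * b = 2 * (a * t) := by rw [h7]; ring
      omega)
    rw [Nat.odd_iff] at ht
    omega
  | odd _ _ h1 h2 h5 h6 h7 h8 =>
    refine hL s r _ _ d c hs.prime hr.prime hos hor (Ne.symm hrs) h4 h3 (Or.inl ⟨h7, rfl⟩) (Or.inl ⟨h6, rfl⟩) h2.le
      (by omega) (by omega) ?_ g (by rw [hg, mul_comm])
    rintro ⟨t, -, h9⟩
    exact h8 ⟨t, h9⟩

/-- adjacent in `PΩ⁺_{2N}` -/
theorem Pair.plus {S : Type u} [Group S] (h : Pair N c d) (hp : p.Prime) (hk : 1 ≤ k) (hS : Fam.Is p k S (.oplus N))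
    (hr : Cl p k c r) (hs : Cl p k d s) : ∃ g : S, orderOf g = r * s := by
  obtain ⟨hn, F, _, _, _, hF, ⟨e⟩⟩ := hS
  have hq : Nat.card F = p ^ k := by rw [Nat.card_eq_fintype_card, hF]
  obtain ⟨h3, h4, hne, -⟩ := h.le
  have hrs := hr.ne hs hk hne
  have hco := (Nat.coprime_primes hr.prime hs.prime).2 hrs
  have hodd : Odd (r * s) := (Nat.odd_iff.2 (hr.odd hk (by omega))).mul (Nat.odd_iff.2 (hs.odd hk (by omega)))
  have hq1 : 1 ≤ p ^ k := Nat.one_le_pow _ _ hp.pos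
  have key : ∃ g : POmega F (quadFormPlus N F), orderOf g = r * s := by
    cases h with
    | even a b h1 h2 h5 h6 =>
      have key : ∀ {c z : ℕ}, 1 ≤ c → Cl p k (2 * c) z → z ∣ Nat.card F ^ c + 1 := fun {c z} hc hz => by
        have h1 := H425.MinusBd.half_pow hq1 hz.prime hc (hz.order hp hk)
        rw [hq]
        exact_mod_cast h1
      have e1 := (H377.elt_tor_minus (F := F) (by omega) (key (by omega) hr)).prod
        (H377.elt_tor_minus (F := F) (by omega) (key (by omega) hs))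
      rw [hco.lcm_eq_mul, h5, neg_mul_neg, one_mul] at e1
      exact H377.Elt2.plus hn (H377.Elt.two (by omega) hodd e1)
    | odd _ _ h1 h2 h5 h6 h7 h8 =>
      have key : ∀ {c z : ℕ}, Cl p k c z → z ∣ Nat.card F ^ c - 1 := fun {c z} hz => by
        rw [hq]
        exact (hz.prim hk).dvd dvd_rfl
      have e1 := (H377.elt_tor_plus (F := F) (by omega) (key hr)).prod (H377.elt_tor_plus (F := F) (by omega) (key hs))
      rw [hco.lcm_eq_mul, h5, one_mul] at e1
      exact H377.Elt2.plus hn (H377.Elt.two (by omega) hodd e1)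
  obtain ⟨g, hg⟩ := key
  exact ⟨e.symm g, by rw [MulEquiv.orderOf_eq, hg]⟩

theorem Pair.psp_aux {F : Type} [Field F] [Fintype F] [CharP F p] (h : Pair N c d) (hp : p.Prime) (hk : 1 ≤ k)
    (hF : Fintype.card F = p ^ k) (hr : Cl p k c r) (hs : Cl p k d s) : ∃ g : PSp N F, orderOf g = r * s := by
  have := Fact.mk hp
  obtain ⟨h3, h4, hne, h5⟩ := h.le
  have hrs := hr.ne hs hk hne
  have hor := hr.order hp hk
  have hos := hs.order hp hk
  have hdv := dv_psp (F := F) (n := N) (by omega)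
  rw [Nat.card_eq_fintype_card, hF] at hdv
  by_contra hcon
  have hcon' : r * s ∉ Set.range (orderOf : PSp N F → ℕ) := hcon
  have key : ∃ ηc ηd, IsEta c ηc ∧ IsEta d ηd ∧ ηc ≤ ηd ∧ ηc + ηd = N := by
    cases h with
    | even a b h1 h2 h5 h6 => exact ⟨a, b, eta_even a, eta_even b, h2.le, h5⟩
    | odd _ _ h1 h2 h5 h6 h7 h8 => exact ⟨c, d, Or.inl ⟨h6, rfl⟩, Or.inl ⟨h7, rfl⟩, h2.le, h5⟩
  obtain ⟨ηc, ηd, g1, g2, g3, g4⟩ := key
  have h6 := (Cfsg.Agent.S2469.result (F := F) p N (by omega) (by omega) r s hr.prime hs.prime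
    (hr.ne_two hk (by omega)) (hs.ne_two hk (by omega)) hr.ne_char hs.ne_char hrs
    (hdv r c ηc hr.prime hor h3 g1 (by omega)) (hdv s d ηd hs.prime hos h4 g2 (by omega)) c d ηc ηd
    (by rw [hF]; exact hor.symm) (by rw [hF]; exact hos.symm) g1 g2 g3).1 hcon'
  omega

/-- adjacent in `PSp_{2N}` -/
theorem Pair.psp {S : Type u} [Group S] (h : Pair N c d) (hp : p.Prime) (hk : 1 ≤ k) (hS : Fam.Is p k S (.psp N))
    (hr : Cl p k c r) (hs : Cl p k d s) : ∃ g : S, orderOf g = r * s := by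
  obtain ⟨hn, hn2, F, _, _, _, hF, ⟨e⟩⟩ := hS
  obtain ⟨g, hg⟩ := h.psp_aux (F := F) hp hk hF hr hs
  exact ⟨e.symm g, by rw [MulEquiv.orderOf_eq, hg]⟩

/-- adjacent in `PΩ_{2N+1}` -/
theorem Pair.oodd {S : Type u} [Group S] (h : Pair N c d) (hp : p.Prime) (hk : 1 ≤ k) (hS : Fam.Is p k S (.oodd N))
    (hr : Cl p k c r) (hs : Cl p k d s) : ∃ g : S, orderOf g = r * s := by
  obtain ⟨hn, ho, F, _, _, _, hF, ⟨e⟩⟩ := hS
  obtain ⟨h3, h4, hne, h5⟩ := h.le
  rw [← hF] at ho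
  obtain ⟨g, hg⟩ := (Cfsg.Agent.S2474.result (F := F) ho N hn r s hr.prime hs.prime (hr.ne hs hk hne)).2
    (h.psp_aux (F := F) hp hk hF hr hs)
  exact ⟨e.symm g, by rw [MulEquiv.orderOf_eq, hg]⟩

end pair

end Cfsg.Agent.H414.S88
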