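import Cfsg.Agent.H425.Siegel
import Cfsg.Agent.H426.LieFam
import Cfsg.Agent.H414.S88.Base

/-!
# Siegel subgroups in every characteristic (helper414)

`mov_psp`, `mov_plus`, `mov_minus` : an element of odd prime order `r ∣ q ^ e - 1`, `1 ≤ e ≤ m`, of `PSp_{2m}(q)`,
`PΩ⁺_{2m}(q)` (`m ≥ 4`), `PΩ⁻_{2m+2}(q)` (`m ≥ 3`) moves a `p`-subgroup, `p` the characteristic (`p = 2` allowed);
`mov_odd` : the same in `PΩ_{2m+1}(q)`, `q` odd.
-/

set_option autoImplicit false
set_option linter.unusedSectionVars false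

namespace Cfsg.Agent.H414.S88

open Matrix Subgroup
open Cfsg.Agent.H425.KStep Cfsg.Agent.H425.Torus Cfsg.Agent.H425.Siegel
open Cfsg.Agent.H426.LieFam Cfsg.Agent.LieClassical.OmegaReindex

universe u

/-- passing to a normal subgroup containing `x` -/
theorem mov_sub' {O : Type*} [Group O] (N : Subgroup O) [N.Normal]
    (hN : ∀ (g : O) (m : ℕ), Odd m → g ^ m = 1 → g ∈ N)
    {p r : ℕ} (hp : p.Prime) (hr : r.Prime) (hr2 : r ≠ 2) (hpr : p ≠ r) (h : Mov O p r) : Mov N p r := by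
  obtain ⟨P, x, hP, hx, hn, a, ha, hne⟩ := h
  have hxN : x ∈ N := hN x r (hr.odd_of_ne_two hr2) (by rw [← hx, pow_orderOf_eq_one])
  by_contra hcon
  -- `x` centralises `N ⊓ P`
  have hc : ∀ b ∈ P, b ∈ N → x * b = b * x := by
    intro b hb hbN
    by_contra hne
    apply hcon
    refine ⟨(P ⊓ N).subgroupOf N, ⟨x, hxN⟩, ?_, by rw [Subgroup.orderOf_mk, hx], ?_, ⟨b, hbN⟩, ⟨hb, hbN⟩, ?_⟩
    · have h1 : IsPGroup p (P ⊓ N : Subgroup O) := hP.to_le inf_le_left
      have h2 : P ⊓ N ≤ N := inf_le_right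
      exact h1.of_injective (subgroupOfEquivOfLe h2).toMonoidHom (subgroupOfEquivOfLe h2).injective
    · rintro c ⟨hc1, hc2⟩
      exact ⟨hn _ hc1, N.mul_mem (N.mul_mem hxN hc2) (N.inv_mem hxN)⟩
    · intro h
      exact hne (congrArg Subtype.val h)
  set z := x * a * x⁻¹ * a⁻¹ with hz
  have hzP : z ∈ P := P.mul_mem (hn a ha) (P.inv_mem ha)
  have hzN : z ∈ N := by
    have h1 : z = x * (a * x⁻¹ * a⁻¹) := by rw [hz]; group
    rw [h1]
    exact N.mul_mem hxN (‹N.Normal›.conj_mem _ (N.inv_mem hxN) a)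
  have hxz := hc z hzP hzN
  have h1 : ∀ j : ℕ, x ^ j * a * (x ^ j)⁻¹ = z ^ j * a := by
    intro j
    induction j with
    | zero => simp
    | succ j ih =>
      have h2 : x * z ^ j = z ^ j * x := (Commute.pow_right (show Commute x z from hxz) j).eq
      calc x ^ (j + 1) * a * (x ^ (j + 1))⁻¹ = x * (x ^ j * a * (x ^ j)⁻¹) * x⁻¹ := by rw [pow_succ']; group
        _ = x * (z ^ j * a) * x⁻¹ := by rw [ih]
        _ = (x * z ^ j) * a * x⁻¹ := by group
        _ = z ^ j * (x * a * x⁻¹ * a⁻¹) * a := by rw [h2]; group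
        _ = z ^ (j + 1) * a := by rw [← hz, pow_succ]
  have h2 := h1 r
  have hxr : x ^ r = 1 := by rw [← hx, pow_orderOf_eq_one]
  rw [hxr, one_mul, inv_one, mul_one] at h2
  have h3 : z ^ r = 1 := (right_eq_mul.1 h2)
  obtain ⟨k, hk⟩ := hP ⟨z, hzP⟩
  have h4 : z ^ p ^ k = 1 := congrArg Subtype.val hk
  have h5 : orderOf z = 1 := Nat.eq_one_of_dvd_coprimes
    (Nat.Coprime.pow_left k ((Nat.coprime_primes hp hr).2 hpr)) (orderOf_dvd_of_pow_eq_one h4)
    (orderOf_dvd_of_pow_eq_one h3)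
  rw [orderOf_eq_one_iff, hz, mul_inv_eq_one, mul_inv_eq_iff_eq_mul] at h5
  exact hne h5

section mat

variable {F : Type*} [Field F] {m : ℕ}

/-- alternating matrices -/
def alt (m : ℕ) (F : Type*) [Field F] : AddSubgroup (Matrix (Fin m) (Fin m) F) where
  carrier := {B | ∀ v : Fin m → F, (B *ᵥ v) ⬝ᵥ v = 0}
  add_mem' := by
    intro a b ha hb v
    rw [Matrix.add_mulVec, add_dotProduct, ha v, hb v, add_zero]
  zero_mem' := by
    intro v
    rw [Matrix.zero_mulVec, zero_dotProduct]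
  neg_mem' := by
    intro a ha v
    rw [Matrix.neg_mulVec, neg_dotProduct, ha v, neg_zero]

theorem act_alt (A : GL (Fin m) F) {B : Matrix (Fin m) (Fin m) F} (hB : B ∈ alt m F) : actM A B ∈ alt m F := by
  intro v
  have h1 := hB ((A : Matrix (Fin m) (Fin m) F)ᵀ *ᵥ v)
  rw [actM, ← Matrix.mulVec_mulVec, ← Matrix.mulVec_mulVec]
  rw [dotProduct_comm, Matrix.dotProduct_mulVec, ← Matrix.mulVec_transpose, dotProduct_comm]
  exact h1

/-- an alternating matrix moved by `A` -/
theorem exists_alt (hm : 3 ≤ m) {A : GL (Fin m) F} (hA : A ^ 2 ≠ 1) : ∃ B ∈ alt m F, actM A B ≠ B := by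
  by_contra hcon
  push Not at hcon
  set M : Matrix (Fin m) (Fin m) F := (A : Matrix (Fin m) (Fin m) F) with hM
  set D : Matrix (Fin m) (Fin m) F := ((A⁻¹ : GL (Fin m) F) : Matrix (Fin m) (Fin m) F)ᵀ with hD
  have key : ∀ i j : Fin m, M * (single i j 1 - single j i 1) = (single i j 1 - single j i 1) * D := by
    intro i j
    refine mul_eq_of_act (hcon _ ?_)
    intro v
    rw [Matrix.sub_mulVec, sub_dotProduct, Matrix.single_mulVec, Matrix.single_mulVec]
    change Pi.single i (1 * v j) ⬝ᵥ v - Pi.single j (1 * v i) ⬝ᵥ v = 0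
    rw [single_dotProduct, single_dotProduct]
    ring
  -- `M` is diagonal
  have third : ∀ i k : Fin m, ∃ j : Fin m, j ≠ i ∧ j ≠ k := by
    intro i k
    have : 2 < Fintype.card (Fin m) := by rw [Fintype.card_fin]; omega
    by_contra hc
    push Not at hc
    have h1 : (Finset.univ : Finset (Fin m)) ⊆ {i, k} := by
      intro j _
      rw [Finset.mem_insert, Finset.mem_singleton]
      by_cases hj : j = i
      · exact Or.inl hj
      · exact Or.inr (hc j hj)
    have h2 := Finset.card_le_card h1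
    have h3 := Finset.card_le_two (a := i) (b := k)
    rw [Finset.card_univ] at h2
    omega
  have hdiag : ∀ k i : Fin m, k ≠ i → M k i = 0 := by
    intro k i hki
    obtain ⟨j, hji, hjk⟩ := third i k
    have h1 := congrFun (congrFun (key i j) k) j
    rw [Matrix.mul_sub, Matrix.sub_mul, Matrix.sub_apply, Matrix.sub_apply] at h1
    rw [Matrix.mul_single_apply_same, Matrix.mul_single_apply_of_ne _ _ _ _ _ hji,
      Matrix.single_mul_apply_of_ne _ _ _ _ _ hki, Matrix.single_mul_apply_of_ne _ _ _ _ _ (Ne.symm hjk)] at h1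
    simpa using h1
  have hval : ∀ i j : Fin m, i ≠ j → M i i = D j j := by
    intro i j hij
    have h1 := congrFun (congrFun (key i j) i) j
    rw [Matrix.mul_sub, Matrix.sub_mul, Matrix.sub_apply, Matrix.sub_apply] at h1
    rw [Matrix.mul_single_apply_same, Matrix.mul_single_apply_of_ne _ _ _ _ _ (Ne.symm hij),
      Matrix.single_mul_apply_same, Matrix.single_mul_apply_of_ne _ _ _ _ _ hij] at h1
    simpa using h1
  have hinv : ∀ i : Fin m, M i i * D i i = 1 := by
    intro i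
    have h1 : M * Dᵀ = 1 := by
      rw [hD, Matrix.transpose_transpose, hM, ← Units.val_mul, mul_inv_cancel, Units.val_one]
    have h2 := congrFun (congrFun h1 i) i
    rw [Matrix.one_apply_eq, Matrix.mul_apply, Finset.sum_eq_single i] at h2
    · rwa [Matrix.transpose_apply] at h2
    · intro k _ hk
      rw [hdiag i k (Ne.symm hk), zero_mul]
    · intro h
      exact absurd (Finset.mem_univ i) h
  apply hA
  have hsq : ∀ i : Fin m, M i i * M i i = 1 := by
    intro i
    obtain ⟨j, hji, -⟩ := third i i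
    obtain ⟨k, hki, hkj⟩ := third i j
    have h1 := hval i j (Ne.symm hji)
    have h2 := hval k j hkj
    have h3 := hval k i hki
    have h4 : M i i = D i i := by rw [h1, ← h2, h3]
    have h5 := hinv i
    rwa [← h4] at h5
  apply Units.ext
  rw [Units.val_pow_eq_pow_val, ← hM, Units.val_one, pow_two]
  ext i j
  rw [Matrix.mul_apply]
  by_cases hij : i = j
  · subst hij
    rw [Matrix.one_apply_eq, Finset.sum_eq_single i]
    · exact hsq i
    · intro k _ hk
      rw [hdiag i k (Ne.symm hk), zero_mul]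
    · intro h
      exact absurd (Finset.mem_univ i) h
  · rw [Matrix.one_apply_ne hij]
    apply Finset.sum_eq_zero
    intro k _
    by_cases hk : k = i
    · subst hk
      rw [hdiag k j hij, mul_zero]
    · rw [hdiag i k (Ne.symm hk), zero_mul]

theorem uni_mem' {B : Matrix (Fin m) (Fin m) F} (hB : B ∈ alt m F) :
    uni m F (Multiplicative.ofAdd B) ∈ Cfsg.isometryGroup F (Cfsg.quadFormPlus m F) := by
  rw [Cfsg.Agent.LieClassical.OmegaReindex.mem_isometryGroup]
  intro v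
  rw [quadFormPlus_eq_dotProduct, quadFormPlus_eq_dotProduct, coe_uni, fromBlocks_mulVec]
  simp only [Matrix.zero_mulVec, zero_add, Sum.elim_comp_inl, Sum.elim_comp_inr, Matrix.one_mulVec]
  rw [add_dotProduct, hB (v ∘ Sum.inr), add_zero]

/-- the unipotent radical -/
def uniA (m : ℕ) (F : Type*) [Field F] :
    Multiplicative (alt m F) →* Cfsg.isometryGroup F (Cfsg.quadFormPlus m F) where
  toFun B := ⟨uni m F (Multiplicative.ofAdd ((Multiplicative.toAdd B : alt m F) : Matrix (Fin m) (Fin m) F)),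
    uni_mem' (Multiplicative.toAdd B : alt m F).2⟩
  map_one' := by
    apply Subtype.ext
    exact map_one (uni m F)
  map_mul' A B := by
    apply Subtype.ext
    exact map_mul (uni m F) _ _

theorem uniA_injective : Function.Injective (uniA m F) := by
  intro A B h
  have h1 := congrArg (fun g : Cfsg.isometryGroup F (Cfsg.quadFormPlus m F) =>
    ((g : GL (Fin m ⊕ Fin m) F) : Matrix (Fin m ⊕ Fin m) (Fin m ⊕ Fin m) F)) h
  have h3 : fromBlocks 1 ((Multiplicative.toAdd A : alt m F) : Matrix (Fin m) (Fin m) F) 0 1 =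
    fromBlocks 1 ((Multiplicative.toAdd B : alt m F) : Matrix (Fin m) (Fin m) F) 0 1 := h1
  exact Subtype.ext (fromBlocks_inj.1 h3).2.1

/-- **the isometry group of plus type** -/
theorem mov_isom' [Fintype F] {p : ℕ} [CharP F p] (hm : 3 ≤ m) {e r : ℕ} (hr : r.Prime)
    (hr2 : r ≠ 2) (he1 : 1 ≤ e) (he : e ≤ m) (h : r ∣ Fintype.card F ^ e - 1) :
    Mov (Cfsg.isometryGroup F (Cfsg.quadFormPlus m F)) p r := by
  obtain ⟨A, hA⟩ := exists_gl (F := F) hr he1 he h
  obtain ⟨B, hB, hne⟩ := exists_alt hm (sq_ne_one hr hr2 hA)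
  refine mov_of_homs (V := alt m F) (A := GL (Fin m) F) (p := p) ?_ (dg m F) (uniA m F) uniA_injective
    (fun A B => ⟨actM A B, act_alt A B.2⟩) ?_ (a := A) (by rw [orderOf_injective _ dg_injective, hA]) (v := ⟨B, hB⟩) ?_
  · intro v
    apply Subtype.ext
    change p • (v : Matrix (Fin m) (Fin m) F) = 0
    rw [← Nat.cast_smul_eq_nsmul F, CharP.cast_eq_zero, zero_smul]
  · intro A B
    rw [mul_inv_eq_iff_eq_mul]
    apply Subtype.ext
    apply Units.ext
    exact conj_blocks A B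
  · intro h
    exact hne (congrArg Subtype.val h)

end mat

/-- from the isometry group to `PΩ` -/
theorem mov_pomega' {F : Type*} [Field F] [Finite F] {ι : Type} [Fintype ι] [DecidableEq ι]
    {Q : QuadraticForm F (ι → F)} (hD : Cfsg.Agent.H390.Lift.Data Q) {p r : ℕ} [CharP F p] (hp : p.Prime)
    (hr : r.Prime) (hr2 : r ≠ 2) (hpr : p ≠ r)
    (h : Mov (Cfsg.isometryGroup F ⇑Q) p r) : Mov (Cfsg.POmega F ⇑Q) p r := by
  have h1 : Mov (Cfsg.Omega F ⇑Q) p r :=
    mov_sub' (Cfsg.Omega F ⇑Q) (fun _ _ hm hg => Cfsg.Agent.H390.Lift.mem_of_odd _ hD.idx hm hg) hp hr hr2 hpr h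
  refine mov_quot _ ?_ hp hr h1
  rcases eq_or_ne p 2 with rfl | hp2
  · have h2 : (2 : F) = 0 := by
      have := CharP.cast_eq_zero F 2
      exact_mod_cast this
    have h3 : Nat.card (center (Cfsg.Omega F ⇑Q)) = 1 := by
      rw [Subgroup.card_eq_one, eq_bot_iff]
      intro z hz
      rw [Subgroup.mem_bot]
      rcases (Cfsg.Agent.LieClassical.OmegaCenter.mem_center_omega_iff Q hD.nd hD.dim hD.iso z).1 hz with h | h
      · exact Cfsg.Agent.LieClassical.OmegaCenter.omega_ext (by rw [h]; rfl)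
      · apply Cfsg.Agent.LieClassical.OmegaCenter.omega_ext
        rw [h]
        have h4 : (-1 : Matrix ι ι F) = 1 := by
          ext i j
          have : -(1 : Matrix ι ι F) i j = (1 : Matrix ι ι F) i j := by linear_combination (-(1 : Matrix ι ι F) i j) * h2
          exact this
        rw [h4]
        rfl
    rw [h3]
    intro h4
    exact hp.one_lt.ne' (Nat.dvd_one.1 h4)
  · exact not_dvd_card_of_sq hp hp2 fun z => Subtype.ext (Cfsg.Agent.H390.Lift.center_sq hD z z.2)

section named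

variable {S : Type u} [Group S] {p k m e r : ℕ}

theorem dvd_ne {F : Type} [Fintype F] (hp : p.Prime) (hF : Fintype.card F = p ^ k) (hk : 1 ≤ k) (he : 1 ≤ e)
    (hr : r.Prime) (h : r ∣ Fintype.card F ^ e - 1) : p ≠ r := by
  rintro rfl
  rw [hF, ← pow_mul] at h
  have h1 : p ∣ p ^ (k * e) := dvd_pow_self p (by
    have := Nat.mul_pos hk he
    omega)
  have h2 : 1 ≤ p ^ (k * e) := Nat.one_le_pow _ _ hp.pos
  have h3 := Nat.dvd_sub h1 h
  rw [Nat.sub_sub_self h2] at h3
  exact hp.one_lt.ne' (Nat.dvd_one.1 h3)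

/-- `PSp_{2m}(q)` -/
theorem mov_fam_psp (hp : p.Prime) (hk : 1 ≤ k) (hS : Fam.Is p k S (.psp m)) (hr : r.Prime) (hr2 : r ≠ 2)
    (he1 : 1 ≤ e) (he : e ≤ m) (h : r ∣ (p ^ k) ^ e - 1) : Mov S p r := by
  obtain ⟨hm, -, F, _, _, _, hF, ⟨f⟩⟩ := hS
  rw [← hF] at h
  refine (Mov.congr f).2 ?_
  have : Finite (Matrix.symplecticGroup (Fin m) F) := Finite.of_injective _ Subtype.val_injective
  refine mov_quot _ ?_ hp hr (mov_sp hr hr2 he1 he h)
  rcases eq_or_ne p 2 with rfl | hp2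
  · have h2 : (2 : F) = 0 := by
      have := CharP.cast_eq_zero F 2
      exact_mod_cast this
    have h3 : Nat.card (center (Matrix.symplecticGroup (Fin m) F)) = 1 := by
      rw [Subgroup.card_eq_one, eq_bot_iff]
      intro z hz
      rw [Subgroup.mem_bot]
      apply Subtype.ext
      rcases Cfsg.Agent.ClassicalGeometry.SympInvolutions.center_eq hz with h | h
      · rw [h]; rfl
      · rw [h]
        ext i j
        have : -(1 : Matrix (Fin m ⊕ Fin m) (Fin m ⊕ Fin m) F) i j = (1 : Matrix (Fin m ⊕ Fin m) (Fin m ⊕ Fin m) F) i j := by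
          linear_combination (-(1 : Matrix (Fin m ⊕ Fin m) (Fin m ⊕ Fin m) F) i j) * h2
        exact this
    rw [h3]
    intro h4
    exact hp.one_lt.ne' (Nat.dvd_one.1 h4)
  · exact not_dvd_card_of_sq hp hp2 sp_center_sq

/-- `PΩ_{2m+1}(q)` -/
theorem mov_fam_oodd (hp : p.Prime) (hk : 1 ≤ k) (hS : Fam.Is p k S (.oodd m)) (hr : r.Prime) (hr2 : r ≠ 2)
    (he1 : 1 ≤ e) (he : e ≤ m) (h : r ∣ (p ^ k) ^ e - 1) : Mov S p r := by
  obtain ⟨hm, ho, F, _, _, _, hF, ⟨f⟩⟩ := hS
  have hp2 : p ≠ 2 := by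
    rintro rfl
    rw [Nat.odd_pow_iff (by omega)] at ho
    exact absurd ho (by decide)
  rw [← hF] at h
  exact (Mov.congr f).2 (mov_odd hp hp2 hm hr hr2 he1 he h)

/-- `PΩ⁺_{2m}(q)` -/
theorem mov_fam_oplus (hp : p.Prime) (hk : 1 ≤ k) (hS : Fam.Is p k S (.oplus m)) (hr : r.Prime) (hr2 : r ≠ 2)
    (he1 : 1 ≤ e) (he : e ≤ m) (h : r ∣ (p ^ k) ^ e - 1) : Mov S p r := by
  obtain ⟨hm, F, _, _, _, hF, ⟨f⟩⟩ := hS
  rw [← hF] at h
  refine (Mov.congr f).2 ?_
  have h1 : Mov (Cfsg.isometryGroup F (quadPlus m F)) p r := by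
    rw [coe_quadPlus]
    exact mov_isom' (by omega) hr hr2 he1 he h
  rw [← coe_quadPlus]
  exact mov_pomega' (data_plus hm) hp hr hr2 (dvd_ne hp hF hk he1 hr h) h1

/-- `PΩ⁻_{2m}(q)` -/
theorem mov_fam_ominus (hp : p.Prime) (hk : 1 ≤ k) (hS : Fam.Is p k S (.ominus m)) (hr : r.Prime) (hr2 : r ≠ 2)
    (he1 : 1 ≤ e) (he : e ≤ m - 1) (h : r ∣ (p ^ k) ^ e - 1) : Mov S p r := by
  obtain ⟨hm, F, _, _, _, a, b, hF, hab, ⟨f⟩⟩ := hS
  rw [← hF] at h
  refine (Mov.congr f).2 ?_
  have h1 : Mov (Cfsg.isometryGroup F (quadMinus (m - 1) F a b)) p r := by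
    rw [coe_quadMinus]
    obtain ⟨g, hg⟩ := Cfsg.Agent.H104.OrthEmb.exists_emb_minus (F := F) (m - 1) a b
    exact (mov_isom' (by omega) hr hr2 he1 he h).map g hg
  rw [← coe_quadMinus]
  exact mov_pomega' (data_minus hm hab) hp hr hr2 (dvd_ne hp hF hk he1 hr h) h1

end named

end Cfsg.Agent.H414.S88
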